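import Cfsg.Agent.H771.KTools_m3
import Cfsg.Agent.H413.JOneSpec
import Cfsg.Agent.KFacts.J4.SheetJ4
import Cfsg.Agent.SporadicA.MathieuRecog
import Cfsg.Agent.H603.SporElim
import Cfsg.Agent.KFacts.SuzTwoB
import Cfsg.Agent.KFacts.Co1.CaseM_m3
import Cfsg.Agent.OddHalf.D9.Ru.XCover
import Cfsg.Agent.KFacts.Ru.PackD_m3
import Cfsg.Agent.RuD.IdxPermG_m3
import Cfsg.Agent.FooteRow.Ru
import Cfsg.Agent.H771.KJ2
import Cfsg.Agent.H771.KJ3
import Cfsg.Agent.H771.KHS
import Cfsg.Agent.H771.KHe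
import Cfsg.Agent.H771.KMT
import Cfsg.Agent.H771.KCo1
import Cfsg.Agent.H771.KCo23
import Cfsg.Agent.H771.KON
import Cfsg.Agent.H328.KSpor
import Cfsg.Agent.H180.KMathieu
import Cfsg.Prelude.Def_Classification2
import Cfsg.Agent.H93.Classical
import Cfsg.Agent.H674.TwelvePSU
import Cfsg.Agent.LieClassical.FieldTransfer
import Cfsg.Agent.H92.ExcThree
import Cfsg.Agent.H92.ExcG24
import Cfsg.Agent.H92.ExcF4Two
import Cfsg.Agent.H92.ExcTits
import Cfsg.Agent.OddOrderLocal.CyclicSub
import Cfsg.Agent.S1158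
import Cfsg.Agent.S1159
import Cfsg.Agent.FastGrp
import Cfsg.Agent.Prune
set_option linter.all false
prune_inst 0x7f00000000000000000000000000000000000000000000000000000000000000000000000000000000000000000000000000000000000000000000000000000000000000000000000000000000000000003fffffffffffffffffffffffffffbeffbdffffffff
open scoped Cfsg.Agent.FastGrp

-- part: H771/KJ1
section
/-!
# `12 ≤ k(G)` for `G = J1` (helper771)
-/

set_option autoImplicit false

namespace Cfsg.Agent.H771.KJ1

open Subgroup Cfsg Cfsg.Agent.H92.KTools Cfsg.Agent.H771.KTools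

theorem j1_model : 12 ≤ Nat.card (ConjClasses Spor.J1) := by
  have hfin : Finite Spor.J1 := Nat.finite_of_card_ne_zero (by
    rw [H413.JOneLocal.card_J1]; norm_num)
  have h4 : ¬ HasOrd Spor.J1 4 := fun h => by
    have := (H413.JOneSpec.exists_orderOf_iff 4).1 h
    revert this
    decide
  have hall : ∀ n ∈ ({1, 2, 3, 5, 6, 7, 10, 11, 15, 19} : Finset ℕ), HasOrd Spor.J1 n :=
    fun n hn => (H413.JOneSpec.exists_orderOf_iff n).2 hn
  refine le_trans (by decide) (sum_le (G := Spor.J1) {1, 2, 3, 5, 6, 7, 10, 11, 15, 19}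
    (fun n => if n = 5 ∨ n = 10 ∨ n = 15 then 2 else 1) ?_)
  intro n hn
  obtain ⟨g, hg⟩ := hall n hn
  by_cases h : n = 5 ∨ n = 10 ∨ n = 15
  · have key : ∃ j, n.Coprime j ∧ (j % 5 = 2 ∨ j % 5 = 3) ∧ ∃ m, n = m * 5 ∧ 0 < m := by
      rcases h with rfl | rfl | rfl
      · exact ⟨2, by decide, by decide, 1, by norm_num⟩
      · exact ⟨3, by decide, by decide, 2, by norm_num⟩
      · exact ⟨2, by decide, by decide, 3, by norm_num⟩
    obtain ⟨j, hj, hj5, m, hm, hm0⟩ := key
    refine ⟨[g, g ^ j], by simp [h], ?_, ?_⟩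
    · have h1 : orderOf (g ^ j) = n := by rw [Nat.Coprime.orderOf_pow (by rw [hg]; exact hj), hg]
      simp [hg, h1]
    · simp only [List.pairwise_cons, List.mem_singleton, forall_eq, List.not_mem_nil, false_imp_iff,
        implies_true, List.Pairwise.nil, and_true]
      intro hc
      have h5 : orderOf (g ^ m) = 5 := by
        rw [orderOf_pow_of_dvd hm0.ne' (by rw [hg, hm]; exact dvd_mul_right m 5), hg, hm,
          Nat.mul_div_cancel_left 5 hm0]
      refine not_conj_five h4 h5 hj5 ?_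
      have := pow_conj hc m
      rwa [← pow_mul, mul_comm, pow_mul] at this
  · exact ⟨[g], by simp [h], by simpa using hg, by simp only [_root_.isConj_iff, _root_.Subtype.exists, _root_.not_exists, _root_.List.pairwise_cons, _root_.List.not_mem_nil, _root_.IsEmpty.forall_iff, _root_.implies_true, _root_.List.Pairwise.nil, _root_.and_self]⟩

theorem j1 {S : Type*} [Group S] (h : Spor.IsoJ1 S) : 12 ≤ Nat.card (ConjClasses S) := by
  obtain ⟨e⟩ := h
  rw [card_classes_congr e]
  exact j1_model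

end Cfsg.Agent.H771.KJ1
end

-- part: H771/KJ4
section
/-!
# `12 ≤ k(G)` for `G = J4` (helper771)
-/

set_option autoImplicit false

namespace Cfsg.Agent.H771.KJ4

open Subgroup Cfsg Cfsg.Agent.H92.KTools Cfsg.Agent.H771.KTools

theorem j4 {S : Type*} [Group S] (h : Spor.IsoJ4 S) : 12 ≤ Nat.card (ConjClasses S) := by
  have hcard := NotCT.Orders.j4 h
  have hfin : Finite S := Nat.finite_of_card_ne_zero (by rw [hcard]; norm_num)
  obtain ⟨h1, h2, ⟨F⟩⟩ := KFacts.J4.Base.exists_full h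
  have hs := KFacts.J4.SheetJ4.sheet F
  have h3 : Nat.card Spor.M22 ∣ Nat.card (centralizer ({F.C.z} : Set S)) :=
    (Subgroup.card_dvd_of_surjective _ (KFacts.J4.AutP.pi_surjective F.C.toCent)).trans
      (Subgroup.card_dvd_of_le (KFacts.J4.Base.MM_le _))
  have h6 : HasOrd S 6 := two_mul_prime hs.zz hs.z1 (p := 3) (by norm_num) (by norm_num) (dvd_trans (by
    rw [SporadicA.MathieuRecog.card_M22]; norm_num) h3)
  refine le_trans (by decide) (orders_le (G := S) {1, 2, 3, 5, 7, 11, 23, 29, 31, 37, 43, 6} ?_)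
  have hd : ∀ p, p.Prime → p ∣ 86775571046077562880 → HasOrd S p := fun p hp hd => hasOrd_prime hp (by rwa [hcard])
  intro m hm
  simp only [Finset.mem_insert, Finset.mem_singleton] at hm
  rcases hm with rfl | rfl | rfl | rfl | rfl | rfl | rfl | rfl | rfl | rfl | rfl | rfl
  · exact hasOrd_one S
  · exact hd 2 (by norm_num) (by norm_num)
  · exact hd 3 (by norm_num) (by norm_num)
  · exact hd 5 (by norm_num) (by norm_num)
  · exact hd 7 (by norm_num) (by norm_num)
  · exact hd 11 (by norm_num) (by norm_num)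
  · exact hd 23 (by norm_num) (by norm_num)
  · exact hd 29 (by norm_num) (by norm_num)
  · exact hd 31 (by norm_num) (by norm_num)
  · exact hd 37 (by norm_num) (by norm_num)
  · exact hd 43 (by norm_num) (by norm_num)
  · exact h6

end Cfsg.Agent.H771.KJ4
end

-- part: H771/KSuz
section
/-!
# `12 ≤ k(G)` for `G = Suz` (helper771)
-/

set_option autoImplicit false

namespace Cfsg.Agent.H771.KSuz

open Subgroup Cfsg Cfsg.Agent.H92.KTools Cfsg.Agent.H771.KTools
open Cfsg.Agent.SuzThree.CentA Cfsg.Agent.SuzThree.QZero Cfsg.Agent.KFacts.SuzCent Cfsg.Agent.KFacts.SuzLFour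

theorem suz_model : 12 ≤ Nat.card (ConjClasses Spor.Suz) := by
  have hcard := NotCT.Orders.suz (K := Spor.Suz) ⟨MulEquiv.refl _⟩
  have hfin : Finite Spor.Suz := KFacts.SuzSheetE.finite_suz
  have h1 : Nat.card (centralizer ({z0} : Set Spor.Suz)) = 3317760 := card_C1
  have h2 : Nat.card (centralizer ({e0} : Set Spor.Suz)) = 161280 := KFacts.SuzTwoB.card_CE
  have hn : ¬ IsConj z0 e0 := by
    intro hc
    have h3 := card_conj hc
    rw [h1, h2] at h3
    omega
  refine le_trans (by decide) (count_two (G := Spor.Suz) z_sq KFacts.SuzR.z_ne e0_sq e0_ne hn {3, 5}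
    {1, 3, 5, 7, 11, 13} ?_ ?_ (by decide) (by decide))
  · intro p hp
    rw [h1, h2]
    simp only [Finset.mem_insert, Finset.mem_singleton] at hp
    rcases hp with rfl | rfl <;> norm_num
  · have hd : ∀ p, p.Prime → p ∣ 448345497600 → HasOrd Spor.Suz p := fun p hp hd => hasOrd_prime hp (by rwa [hcard])
    intro m hm
    simp only [Finset.mem_insert, Finset.mem_singleton] at hm
    rcases hm with rfl | rfl | rfl | rfl | rfl | rfl
    · exact hasOrd_one _
    · exact hd 3 (by norm_num) (by norm_num)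
    · exact hd 5 (by norm_num) (by norm_num)
    · exact hd 7 (by norm_num) (by norm_num)
    · exact hd 11 (by norm_num) (by norm_num)
    · exact hd 13 (by norm_num) (by norm_num)

theorem suz {S : Type*} [Group S] (h : Spor.IsoSuz S) : 12 ≤ Nat.card (ConjClasses S) := by
  have hfin : Finite Spor.Suz := KFacts.SuzSheetE.finite_suz
  obtain ⟨e⟩ := h
  have := Finite.of_equiv _ e.symm.toEquiv
  rw [card_classes_congr e]
  exact suz_model

end Cfsg.Agent.H771.KSuz
end

-- part: H771/KRu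
section
/-!
# `12 ≤ k(G)` for `G = Ru` (helper771)
-/

set_option autoImplicit false

namespace Cfsg.Agent.H771.KRu

open Subgroup Cfsg Cfsg.Agent.H92.KTools Cfsg.Agent.H771.KTools
open Cfsg.Agent.KFacts.Ru Cfsg.Agent.RuD.Letters Cfsg.Agent.RuD.Model Cfsg.Agent.SporadicB

theorem ru {G : Type*} [Group G] (h : Spor.IsoRu G) : 12 ≤ Nat.card (ConjClasses G) := by
  have hcard := NotCT.Orders.ru h
  have hfin : Finite G := Nat.finite_of_card_ne_zero (by rw [hcard]; norm_num)
  obtain ⟨C, -⟩ := exists_core h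
  obtain ⟨a, ha⟩ : ∃ a : RuB.A4, a ≠ 0 := ⟨1, by decide⟩
  have hv1 : C.v a ≠ 1 := fun h => ha (C.v_eq_one h)
  have hcv := RuB.Local.card_cent_v (C := C) ha
  have h26 : ∀ p, p.Prime → p ≠ 2 → p ∣ 4 * 29120 → HasOrd G (2 * p) := fun p hp hp2 hd =>
    two_mul_prime (C.v_sq a) hv1 hp hp2 (by rwa [hcv])
  have h4 : HasOrd G 4 := four (a := C.U 1 1) (z := C.z 1) (by rw [C.U_sq, one_pow]) (C.z_sq 1) (fun h => by
    have := C.z_eq_one h
    exact absurd this one_ne_zero)
  have h6 : HasOrd G 6 := by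
    obtain ⟨e⟩ := h
    refine HasOrd.of_equiv (H := RuOrder.H) ?_ (e.trans RuLat.Main.equiv).symm
    have hfH : Finite RuOrder.H := Finite.of_equiv _ (e.trans RuLat.Main.equiv).toEquiv
    exact two_mul_prime KFacts.Ru.PackD.loc.zz KFacts.Ru.PackD.loc.z1 (p := 3) (by norm_num) (by norm_num) (by
      rw [OddHalf.D9.Ru.XCover.card_cent]; norm_num)
  have hd : ∀ p, p.Prime → p ∣ 145926144000 → HasOrd G p := fun p hp hd => hasOrd_prime hp (by rwa [hcard])
  refine le_trans (by decide) (orders_le (G := G) {1, 2, 3, 5, 7, 13, 29, 4, 6, 10, 14, 26} ?_)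
  intro m hm
  simp only [Finset.mem_insert, Finset.mem_singleton] at hm
  rcases hm with rfl | rfl | rfl | rfl | rfl | rfl | rfl | rfl | rfl | rfl | rfl | rfl
  · exact hasOrd_one G
  · exact hd 2 (by norm_num) (by norm_num)
  · exact hd 3 (by norm_num) (by norm_num)
  · exact hd 5 (by norm_num) (by norm_num)
  · exact hd 7 (by norm_num) (by norm_num)
  · exact hd 13 (by norm_num) (by norm_num)
  · exact hd 29 (by norm_num) (by norm_num)
  · exact h4
  · exact h6
  · exact h26 5 (by norm_num) (by norm_num) (by norm_num)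
  · exact h26 7 (by norm_num) (by norm_num) (by norm_num)
  · exact h26 13 (by norm_num) (by norm_num) (by norm_num)

end Cfsg.Agent.H771.KRu
end

-- part: H93/SporAlt
section
set_option autoImplicit false

/-! # Class numbers of the sporadic groups -/

namespace Cfsg.Agent.H93.SporAlt

/-- every sporadic group other than `M₁₁` has at least 12 conjugacy classes -/
theorem spor {S : Type*} [Group S] (h : IsSporadicGroup S) :
    12 ≤ Nat.card (ConjClasses S) ∨ Spor.IsoM11 S := by
  rcases h with h | h | h | h | h | h | h | h | h | h | h | h | h | h | h | h | h | h | h | h | h | h | h | h | h | h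
  · exact Or.inr h
  · exact Or.inl (H180.KMathieu.m12 h)
  · exact Or.inl (H180.KMathieu.m22 h)
  · exact Or.inl (H180.KMathieu.m23 h)
  · exact Or.inl (H180.KMathieu.m24 h)
  · exact Or.inl (H771.KJ1.j1 h)
  · exact Or.inl (H771.KJ2.j2 h)
  · exact Or.inl (H771.KJ3.j3 h)
  · exact Or.inl (H771.KJ4.j4 h)
  · exact Or.inl (H771.KCo1.co1 h)
  · exact Or.inl (H771.KCo23.co2 h)
  · exact Or.inl (H771.KCo23.co3 h)
  · exact Or.inl (H771.KMT.mcl h)
  · exact Or.inl (H771.KHS.hs h)
  · exact Or.inl (H771.KSuz.suz h)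
  · exact Or.inl (H771.KHe.he h)
  · exact Or.inl (H771.KRu.ru h)
  · exact Or.inl (H771.KON.on h)
  · exact Or.inl (H771.KMT.ly h)
  · exact Or.inl (H328.KSpor.fi22 h)
  · exact Or.inl (H328.KSpor.fi23 h)
  · exact Or.inl (H328.KSpor.fi24 h)
  · exact Or.inl (H328.KSpor.hn h)
  · exact Or.inl (H328.KSpor.th h)
  · exact Or.inl (H328.KSpor.b h)
  · exact Or.inl (H328.KSpor.m h)

end Cfsg.Agent.H93.SporAlt
end

-- part: H93/ClassNum
section
set_option autoImplicit false

/-! # The known simple groups with at most eleven conjugacy classes -/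

namespace Cfsg.Agent.H93.ClassNum

open Matrix

/-- the exceptional groups (one row) -/
def Exc (S : Type*) [Group S] : Prop :=
  12 ≤ Nat.card (ConjClasses S) ∨
    ∃ (F : Type) (_ : Field F) (_ : Fintype F), Fintype.card F = 8 ∧ Nonempty (S ≃* ↥(Lie.Sz F 4))

/-- the groups with at most eleven conjugacy classes -/
inductive Small (S : Type*) [Group S] : Prop
  | alt (n : ℕ) (h5 : 5 ≤ n) (h7 : n ≤ 7) (e : Nonempty (S ≃* alternatingGroup (Fin n)))
  | psl2 (F : Type) (i1 : Field F) (i2 : Fintype F) (h : 4 ≤ Fintype.card F)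
      (e : Nonempty (S ≃* ProjectiveSpecialLinearGroup (Fin 2) F))
  | psl32 (F : Type) (i1 : Field F) (i2 : Fintype F) (h : Fintype.card F = 2)
      (e : Nonempty (S ≃* ProjectiveSpecialLinearGroup (Fin 3) F))
  | psl34 (F : Type) (i1 : Field F) (i2 : Fintype F) (h : Fintype.card F = 4)
      (e : Nonempty (S ≃* ProjectiveSpecialLinearGroup (Fin 3) F))
  | m11 (h : Spor.IsoM11 S)
  | sz (F : Type) (i1 : Field F) (i2 : Fintype F) (h : Fintype.card F = 8) (e : Nonempty (S ≃* ↥(Lie.Sz F 4)))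

/-- **the known simple groups with at most eleven classes** -/
theorem known {S : Type*} [Group S] (h : IsKnownSimple' S) (hS : ¬ IsMulCommutative S)
    (hexc : IsExceptionalLieType S → Exc S) : 12 ≤ Nat.card (ConjClasses S) ∨ Small S := by
  rcases h with h | ⟨n, hn, ⟨e⟩⟩ | ⟨F, _, _, n, hn, hq, ⟨e⟩⟩ | ⟨F, _, _, m, hm, hq, ⟨e⟩⟩ | ⟨F, _, _, n, q, hF, hn, hne, ⟨e⟩⟩ |
    h | h | h | h | h
  · have : Fact (Nat.card S).Prime := ⟨h⟩
    have hc : IsCyclic S := isCyclic_of_prime_card rfl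
    exact (hS ⟨⟨fun a b => by
      obtain ⟨g, hg⟩ := hc.exists_generator
      obtain ⟨k, rfl⟩ := hg a
      obtain ⟨l, rfl⟩ := hg b
      exact (Commute.refl g).zpow_zpow k l⟩⟩).elim
  · rcases Nat.lt_or_ge n 8 with h8 | h8
    · exact Or.inr (Small.alt n hn (by omega) ⟨e⟩)
    · left
      rw [H92.KTools.card_classes_congr e]
      exact H525.AltK.alt_ge h8
  · rcases Nat.eq_or_lt_of_le hn with h2 | h2
    · subst h2
      exact Or.inr (Small.psl2 F _ _ (hq rfl) ⟨e⟩)
    · by_cases h32 : n = 3 ∧ Fintype.card F = 2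
      · obtain ⟨rfl, hF⟩ := h32
        exact Or.inr (Small.psl32 F _ _ hF ⟨e⟩)
      by_cases h34 : n = 3 ∧ Fintype.card F = 4
      · obtain ⟨rfl, hF⟩ := h34
        exact Or.inr (Small.psl34 F _ _ hF ⟨e⟩)
      left
      rw [H92.KTools.card_classes_congr e]
      exact Classical.twelve_le_psl n h2 h32 h34
  · left
    rw [H92.KTools.card_classes_congr e]
    exact Classical.twelve_le_psp m hm hq
  · left
    rw [H92.KTools.card_classes_congr e]
    exact H674.TwelvePSU.twelve_le_psu F n q hF hn hne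
  · exact Or.inl (H695.ESeven.twelve_le_of_isPOmegaOdd h)
  · exact Or.inl (H695.ESeven.twelve_le_of_isPOmegaPlus h)
  · exact Or.inl (H695.ESeven.twelve_le_of_isPOmegaMinus h)
  · rcases hexc h with h1 | ⟨F, i1, i2, h1, h2⟩
    · exact Or.inl h1
    · exact Or.inr (Small.sz F i1 i2 h1 h2)
  · rcases SporAlt.spor h with h1 | h1
    · exact Or.inl h1
    · exact Or.inr (Small.m11 h1)

end Cfsg.Agent.H93.ClassNum
end

-- part: H93/Final
section
set_option autoImplicit false

/-! # Simple groups with nine, ten or eleven conjugacy classes -/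

namespace Cfsg.Agent.H93.Final

open Matrix ClassNum

theorem psl2_card {F : Type} [Field F] [Fintype F] :
    (Even (Fintype.card F) ∧ Nat.card (ConjClasses (ProjectiveSpecialLinearGroup (Fin 2) F)) = Fintype.card F + 1) ∨
      (Odd (Fintype.card F) ∧ 2 * Nat.card (ConjClasses (ProjectiveSpecialLinearGroup (Fin 2) F)) = Fintype.card F + 5) := by
  rcases Nat.even_or_odd (Fintype.card F) with h | h
  · exact Or.inl ⟨h, H525.PslK.psl2_even h⟩
  · exact Or.inr ⟨h, H525.PslK.psl2_odd h⟩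

/-- the isomorphism with a group over `ZMod p` -/
theorem psl2_zmod {F : Type} [Field F] [Fintype F] {p : ℕ} (hp : p.Prime) (hF : Fintype.card F = p) :
    Nonempty (ProjectiveSpecialLinearGroup (Fin 2) F ≃* ProjectiveSpecialLinearGroup (Fin 2) (ZMod p)) := by
  have : Fact p.Prime := ⟨hp⟩
  exact ⟨LieClassical.FieldTransfer.pslCongr (ZMod.ringEquivOfPrime F hp hF).symm⟩

theorem isPrimePow_card {F : Type} [Field F] [Fintype F] : IsPrimePow (Fintype.card F) :=
  FiniteField.isPrimePow_card F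

theorem not_isPrimePow_fifteen : ¬ IsPrimePow 15 := by
  intro h
  rw [isPrimePow_nat_iff] at h
  obtain ⟨p, k, hp, hk, h⟩ := h
  have h3 : (3 : ℕ) ∣ p ^ k := by rw [h]; norm_num
  have h5 : (5 : ℕ) ∣ p ^ k := by rw [h]; norm_num
  have h3' := (Nat.prime_dvd_prime_iff_eq Nat.prime_three hp).1 (Nat.prime_three.dvd_of_dvd_pow h3)
  have h5' := (Nat.prime_dvd_prime_iff_eq Nat.prime_five hp).1 (Nat.prime_five.dvd_of_dvd_pow h5)
  omega

theorem not_isPrimePow_ten : ¬ IsPrimePow 10 := by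
  intro h
  rw [isPrimePow_nat_iff] at h
  obtain ⟨p, k, hp, hk, h⟩ := h
  have h3 : (2 : ℕ) ∣ p ^ k := by rw [h]; norm_num
  have h5 : (5 : ℕ) ∣ p ^ k := by rw [h]; norm_num
  have h3' := (Nat.prime_dvd_prime_iff_eq Nat.prime_two hp).1 (Nat.prime_two.dvd_of_dvd_pow h3)
  have h5' := (Nat.prime_dvd_prime_iff_eq Nat.prime_five hp).1 (Nat.prime_five.dvd_of_dvd_pow h5)
  omega

theorem alt_card {n : ℕ} (h5 : 5 ≤ n) (h7 : n ≤ 7) :
    Nat.card (ConjClasses (alternatingGroup (Fin n))) ≤ 9 ∧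
      (n ≠ 7 → Nat.card (ConjClasses (alternatingGroup (Fin n))) ≤ 7) := by
  have h : n = 5 ∨ n = 6 ∨ n = 7 := by omega
  rcases h with rfl | rfl | rfl
  · have := H525.AltK.alt_five
    omega
  · have := H525.AltK.alt_six
    omega
  · have := H525.AltK.alt_seven
    omega

theorem psl32_card {F : Type} [Field F] [Fintype F] (hF : Fintype.card F = 2) :
    Nat.card (ConjClasses (ProjectiveSpecialLinearGroup (Fin 3) F)) = 6 := by
  have : Fact (Nat.Prime 7) := ⟨by norm_num⟩
  obtain ⟨e⟩ := S0255.result (F := ZMod 7) (K := F) (ZMod.card 7) hF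
  rw [← H92.KTools.card_classes_congr e]
  have h := H525.PslK.psl2_odd (F := ZMod 7) (by rw [ZMod.card]; decide)
  rw [ZMod.card] at h
  omega

variable {S : Type*} [Group S]

/-- **the simple groups with nine classes** -/
theorem nine (h : IsKnownSimple' S) (hS : ¬ IsMulCommutative S) (hexc : IsExceptionalLieType S → Exc S)
    (hm : Nat.card (ConjClasses Spor.M11) = 10)
    (hsz : ∀ (F : Type) [Field F] [Fintype F], Fintype.card F = 8 → 11 ≤ Nat.card (ConjClasses ↥(Lie.Sz F 4)))
    (hk : Nat.card (ConjClasses S) = 9) :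
    (∃ (F : Type) (_ : Field F) (_ : Fintype F), Fintype.card F = 8 ∧
        Nonempty (S ≃* ProjectiveSpecialLinearGroup (Fin 2) F)) ∨
      Nonempty (S ≃* ProjectiveSpecialLinearGroup (Fin 2) (ZMod 13)) ∨
      Nonempty (S ≃* ↥(alternatingGroup (Fin 7))) := by
  rcases known h hS hexc with h1 | h1
  · omega
  rcases h1 with ⟨n, h5, h7, ⟨e⟩⟩ | ⟨F, i1, i2, hF, ⟨e⟩⟩ | ⟨F, i1, i2, hF, ⟨e⟩⟩ | ⟨F, i1, i2, hF, ⟨e⟩⟩ | ⟨⟨e⟩⟩ | ⟨F, i1, i2, hF, ⟨e⟩⟩
  · rw [H92.KTools.card_classes_congr e] at hk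
    by_cases hn : n = 7
    · subst hn
      exact Or.inr (Or.inr ⟨e⟩)
    · have := (alt_card h5 h7).2 hn
      omega
  · rw [H92.KTools.card_classes_congr e] at hk
    rcases psl2_card (F := F) with ⟨h2, h3⟩ | ⟨h2, h3⟩
    · exact Or.inl ⟨F, i1, i2, by omega, ⟨e⟩⟩
    · obtain ⟨e'⟩ := psl2_zmod (F := F) (p := 13) (by norm_num) (by omega)
      exact Or.inr (Or.inl ⟨e.trans e'⟩)
  · rw [H92.KTools.card_classes_congr e, psl32_card hF] at hk
    omega
  · rw [H92.KTools.card_classes_congr e, LThreeFour.card_eq_ten hF] at hk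
    omega
  · rw [H92.KTools.card_classes_congr e, hm] at hk
    omega
  · rw [H92.KTools.card_classes_congr e] at hk
    have := hsz F hF
    omega

/-- **the simple groups with ten classes** -/
theorem ten (h : IsKnownSimple' S) (hS : ¬ IsMulCommutative S) (hexc : IsExceptionalLieType S → Exc S)
    (hsz : ∀ (F : Type) [Field F] [Fintype F], Fintype.card F = 8 → 11 ≤ Nat.card (ConjClasses ↥(Lie.Sz F 4)))
    (hk : Nat.card (ConjClasses S) = 10) :
    Nonempty (S ≃* ↥Cfsg.Spor.M11) ∨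
      ∃ (F : Type) (_ : Field F) (_ : Fintype F), Fintype.card F = 4 ∧
        Nonempty (S ≃* ProjectiveSpecialLinearGroup (Fin 3) F) := by
  rcases known h hS hexc with h1 | h1
  · omega
  rcases h1 with ⟨n, h5, h7, ⟨e⟩⟩ | ⟨F, i1, i2, hF, ⟨e⟩⟩ | ⟨F, i1, i2, hF, ⟨e⟩⟩ | ⟨F, i1, i2, hF, ⟨e⟩⟩ | ⟨⟨e⟩⟩ | ⟨F, i1, i2, hF, ⟨e⟩⟩
  · rw [H92.KTools.card_classes_congr e] at hk
    have := (alt_card h5 h7).1
    omega
  · rw [H92.KTools.card_classes_congr e] at hk
    rcases psl2_card (F := F) with ⟨h2, h3⟩ | ⟨h2, h3⟩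
    · have h4 : Fintype.card F = 9 := by omega
      rw [h4] at h2
      exact absurd h2 (by decide)
    · have h4 : Fintype.card F = 15 := by omega
      exact absurd (h4 ▸ isPrimePow_card (F := F)) not_isPrimePow_fifteen
  · rw [H92.KTools.card_classes_congr e, psl32_card hF] at hk
    omega
  · exact Or.inr ⟨F, i1, i2, hF, ⟨e⟩⟩
  · exact Or.inl ⟨e⟩
  · rw [H92.KTools.card_classes_congr e] at hk
    have := hsz F hF
    omega

/-- **the simple groups with eleven classes** -/
theorem eleven (h : IsKnownSimple' S) (hS : ¬ IsMulCommutative S) (hexc : IsExceptionalLieType S → Exc S)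
    (hm : Nat.card (ConjClasses Spor.M11) = 10) (hk : Nat.card (ConjClasses S) = 11) :
    Nonempty (S ≃* ProjectiveSpecialLinearGroup (Fin 2) (ZMod 17)) ∨
      ∃ (F : Type) (_ : Field F) (_ : Fintype F), Fintype.card F = 8 ∧ Nonempty (S ≃* ↥(Cfsg.Lie.Sz F 4)) := by
  rcases known h hS hexc with h1 | h1
  · omega
  rcases h1 with ⟨n, h5, h7, ⟨e⟩⟩ | ⟨F, i1, i2, hF, ⟨e⟩⟩ | ⟨F, i1, i2, hF, ⟨e⟩⟩ | ⟨F, i1, i2, hF, ⟨e⟩⟩ | ⟨⟨e⟩⟩ | ⟨F, i1, i2, hF, ⟨e⟩⟩
  · rw [H92.KTools.card_classes_congr e] at hk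
    have := (alt_card h5 h7).1
    omega
  · rw [H92.KTools.card_classes_congr e] at hk
    rcases psl2_card (F := F) with ⟨h2, h3⟩ | ⟨h2, h3⟩
    · have h4 : Fintype.card F = 10 := by omega
      exact absurd (h4 ▸ isPrimePow_card (F := F)) not_isPrimePow_ten
    · obtain ⟨e'⟩ := psl2_zmod (F := F) (p := 17) (by norm_num) (by omega)
      exact Or.inl ⟨e.trans e'⟩
  · rw [H92.KTools.card_classes_congr e, psl32_card hF] at hk
    omega
  · rw [H92.KTools.card_classes_congr e, LThreeFour.card_eq_ten hF] at hk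
    omega
  · rw [H92.KTools.card_classes_congr e, hm] at hk
    omega
  · exact Or.inr ⟨F, i1, i2, hF, ⟨e⟩⟩

end Cfsg.Agent.H93.Final
end

-- part: H92/ExcRows
section
/-!
# `G₂(q)`, `F₄(q)`, `E₆(q)`, `E₇(q)`, `E₈(q)`, `²F₄(q)`, the Tits group: at least twelve classes
-/

set_option autoImplicit false

namespace Cfsg.Agent.H92.ExcRows

open Cfsg Cfsg.Lie Cfsg.Agent.H92.KTools Cfsg.Agent.H436 Cfsg.Agent.OrdDiv

universe u

theorem exists_charP (F : Type) [Field F] [Fintype F] : ∃ p n : ℕ, p.Prime ∧ CharP F p ∧ n ≠ 0 ∧ Fintype.card F = p ^ n := by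
  obtain ⟨p, hp⟩ := CharP.exists F
  obtain ⟨n, hpr, hn⟩ := FiniteField.card F p
  exact ⟨p, n, hpr, hp, n.2.ne', hn⟩

variable {S : Type u} [Group S] [Finite S]

theorem g2 {q : ℕ} (h : IsNamed (.g2 q) S) : 12 ≤ Nat.card (ConjClasses S) := by
  obtain ⟨F, _, _, hF, ⟨e⟩⟩ := h.real
  have hF' : Nat.card F = q := by rw [Nat.card_eq_fintype_card, hF]
  obtain ⟨p, n, hp, hc, hn, hcard⟩ := exists_charP F
  have hpF : Fact p.Prime := ⟨hp⟩
  have hq : q = p ^ n := hF.symm.trans hcard
  by_cases h5 : 5 ≤ p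
  · exact ExcG2.g2_ge_five h.cond h.eq hF' e p h5
  have h3 : p = 2 ∨ p = 3 := by
    have := hp.two_le
    have h4 : p ≠ 4 := fun h4 => by rw [h4] at hp; exact absurd hp (by norm_num)
    omega
  rcases h3 with rfl | rfl
  · -- even
    have h3 := h.cond.1
    have hn1 : n ≠ 1 := by rintro rfl; omega
    by_cases h2 : n = 2
    · subst h2
      rw [card_classes_congr e]
      exact ExcG24.g2_four (by rw [hF', hq]; norm_num)
    by_cases h3 : n = 3
    · subst h3
      have : q = 8 := by rw [hq]; norm_num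
      subst this
      exact ExcG2.g2_eight h.cond h.eq hF' e
    · have : 2 ^ 4 ≤ 2 ^ n := Nat.pow_le_pow_right (by norm_num) (by omega)
      exact ExcG2.g2_two h.cond (by omega) h.eq hF' e
  · by_cases h1 : n = 1
    · subst h1
      have : q = 3 := by rw [hq]; norm_num
      subst this
      exact ExcThree.g2_three' h.eq hF' e
    · have : 3 ^ 2 ≤ 3 ^ n := Nat.pow_le_pow_right (by norm_num) (by omega)
      exact ExcG2.g2_three h.cond (by omega) h.eq hF' e

theorem f4 {q : ℕ} (h : IsNamed (.f4 q) S) : 12 ≤ Nat.card (ConjClasses S) := by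
  obtain ⟨F, _, _, hF, ⟨e⟩⟩ := h.real
  obtain ⟨p, n, hp, hc, hn, hcard⟩ := exists_charP F
  have hpF : Fact p.Prime := ⟨hp⟩
  have hq : q = p ^ n := hF.symm.trans hcard
  by_cases h4 : 4 ≤ q
  · exact ExcCount.f4 h.cond h4 h.eq e
  have h1 : p ∣ q := by rw [hq]; exact dvd_pow_self p hn
  have h2 : 2 ≤ q := (show IsPrimePow q from h.cond).two_le
  have h3 : q = 2 ∨ q = 3 := by omega
  rcases h3 with rfl | rfl
  · have := (Nat.prime_dvd_prime_iff_eq hp Nat.prime_two).1 h1
    subst this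
    rw [card_classes_congr e]
    exact ExcF4Two.f4_even
  · have := (Nat.prime_dvd_prime_iff_eq hp Nat.prime_three).1 h1
    subst this
    exact ExcThree.f4_three h.eq e

theorem e6 {q : ℕ} (h : IsNamed (.e6 q) S) : 12 ≤ Nat.card (ConjClasses S) := by
  obtain ⟨F, _, _, hF, ⟨e⟩⟩ := h.real
  exact ExcCount.e6 h.cond h.eq e

theorem e7 {q : ℕ} (h : IsNamed (.e7 q) S) : 12 ≤ Nat.card (ConjClasses S) :=
  ExcCount.e7 h.cond h.eq

theorem e8 {q : ℕ} (h : IsNamed (.e8 q) S) : 12 ≤ Nat.card (ConjClasses S) :=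
  ExcCount.e8 h.cond h.eq

theorem tf4 {q : ℕ} (h : IsNamed (.tf4 q) S) : 12 ≤ Nat.card (ConjClasses S) := by
  obtain ⟨F, _, _, m, hm, hF, hq, ⟨e⟩⟩ := h.real
  rw [card_classes_congr e]
  exact ExcTwF4.twF4' (hF.trans hq)

theorem tits (h : IsNamed .tits S) : 12 ≤ Nat.card (ConjClasses S) := ExcTits.tits h.real

end Cfsg.Agent.H92.ExcRows
end

-- part: H870/KRee
section
/-!
# The small Ree groups have at least 12 conjugacy classes

`count_ge` : classes meeting a cyclic subgroup `A` all of whose non-trivial subgroups have the same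
normaliser as `A`, together with some element orders.
-/

set_option autoImplicit false

namespace Cfsg.Agent.H870.KRee

open Cfsg.Agent.H92.KTools

theorem count_ge {G : Type*} [Group G] [Finite G] (A : Subgroup G) (hA : IsCyclic A)
    (hN : ∀ A₀ : Subgroup G, A₀ ≤ A → A₀ ≠ ⊥ →
      Subgroup.normalizer (A₀ : Set G) = Subgroup.normalizer (A : Set G))
    {e : ℕ} (he : Nat.card (Subgroup.normalizer (A : Set G)) = e * Nat.card A)
    (s : Finset ℕ) (hs : ∀ n ∈ s, HasOrd G n) (hd : ∀ n ∈ s, n ∣ Nat.card A → n = 1) :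
    s.card + (Nat.card A - 1) / e ≤ Nat.card (ConjClasses G) := by
  classical
  have : Finite (ConjClasses G) := Quotient.finite _
  have := Fintype.ofFinite (ConjClasses G)
  have := Fintype.ofFinite {x : A // x ≠ 1}
  set N := Subgroup.normalizer (A : Set G) with hNdef
  have hAN : A ≤ N := Subgroup.le_normalizer
  have hq : Nat.card (N ⧸ A.subgroupOf N) = e := by
    have h1 := Subgroup.card_eq_card_quotient_mul_card_subgroup (A.subgroupOf N)
    rw [he, Nat.card_congr (Subgroup.subgroupOfEquivOfLe hAN).toEquiv] at h1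
    exact (Nat.eq_of_mul_eq_mul_right Nat.card_pos h1).symm
  have := Fintype.ofFinite (N ⧸ A.subgroupOf N)
  have hcomm : ∀ x ∈ A, ∀ y ∈ A, x * y = y * x := by
    intro x hx y hy
    obtain ⟨g, hg⟩ := hA.exists_generator
    obtain ⟨a, ha⟩ := Subgroup.mem_zpowers_iff.1 (hg ⟨x, hx⟩)
    obtain ⟨b, hb⟩ := Subgroup.mem_zpowers_iff.1 (hg ⟨y, hy⟩)
    have h1 : (⟨x, hx⟩ : A) * ⟨y, hy⟩ = ⟨y, hy⟩ * ⟨x, hx⟩ := by
      rw [← ha, ← hb, ← zpow_add, ← zpow_add, add_comm]
    exact congrArg Subtype.val h1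
  let f : {x : A // x ≠ 1} → ConjClasses G := fun x => ConjClasses.mk ((x : A) : G)
  -- fusion is controlled by `N`
  have fus : ∀ x y : {x : A // x ≠ 1}, f x = f y → ∃ n ∈ N, n * ((x : A) : G) * n⁻¹ = ((y : A) : G) := by
    intro x y hxy
    obtain ⟨g, hg⟩ := isConj_iff.1 (ConjClasses.mk_eq_mk_iff_isConj.1 hxy)
    refine ⟨g, ?_, hg⟩
    have h1 : Subgroup.zpowers ((x : A) : G) ≤ A := by
      rw [Subgroup.zpowers_le]; exact (x : A).2
    have hne : Subgroup.zpowers ((x : A) : G) ≠ ⊥ := by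
      rw [Ne, Subgroup.zpowers_eq_bot]
      intro h
      exact x.2 (Subtype.ext h)
    rw [← hN _ h1 hne]
    have h1' : Subgroup.zpowers ((y : A) : G) ≤ A := by
      rw [Subgroup.zpowers_le]; exact (y : A).2
    have h3 : Subgroup.zpowers ((x : A) : G) = Subgroup.zpowers ((y : A) : G) := by
      apply Cfsg.Agent.OddOrderLocal.CyclicSub.eq_of_card_eq_of_le_cyclic hA h1 h1'
      rw [Nat.card_zpowers, Nat.card_zpowers, ← hg]
      exact (MulAut.conj g).orderOf_eq ((x : A) : G) |>.symm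
    have h4 : (Subgroup.zpowers ((x : A) : G)).map (MulAut.conj g).toMonoidHom =
        Subgroup.zpowers ((x : A) : G) := by
      rw [MonoidHom.map_zpowers]
      show Subgroup.zpowers (g * ((x : A) : G) * g⁻¹) = _
      rw [hg, h3]
    rw [Subgroup.mem_normalizer_iff]
    intro h
    constructor
    · intro hh
      rw [← h4]
      exact ⟨h, hh, rfl⟩
    · intro hh
      rw [← h4] at hh
      obtain ⟨k, hk, hk'⟩ := hh
      have : k = h := (MulAut.conj g).injective hk'
      rwa [← this]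
  have hfib : ∀ c ∈ (Finset.univ : Finset {x : A // x ≠ 1}).image f,
      ((Finset.univ : Finset {x : A // x ≠ 1}).filter (fun x => f x = c)).card ≤ e := by
    intro c hc
    obtain ⟨x, -, rfl⟩ := Finset.mem_image.1 hc
    rw [← hq, Nat.card_eq_fintype_card, ← Finset.card_univ]
    have h1 : ∀ y ∈ (Finset.univ : Finset {x : A // x ≠ 1}).filter (fun y => f y = f x),
        ∃ n ∈ N, n * ((x : A) : G) * n⁻¹ = ((y : A) : G) := by
      intro y hy
      exact fus x y (Finset.mem_filter.1 hy).2.symm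
    choose! n hn hn' using h1
    refine Finset.card_le_card_of_injOn
      (fun y => if h : n y ∈ N then ((⟨n y, h⟩ : N) : N ⧸ A.subgroupOf N) else 1)
      (fun _ _ => Finset.mem_coe.2 (Finset.mem_univ _)) ?_
    intro y hy z hz hyz
    have hy' := hn y hy
    have hz' := hn z hz
    simp only [dif_pos hy', dif_pos hz'] at hyz
    rw [QuotientGroup.eq] at hyz
    have h2 : (n y)⁻¹ * n z ∈ A := hyz
    have h3 := hcomm _ h2 _ (x : A).2
    apply Subtype.ext
    apply Subtype.ext
    rw [← hn' y hy, ← hn' z hz]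
    calc n y * ((x : A) : G) * (n y)⁻¹ = n y * (((x : A) : G) * ((n y)⁻¹ * n z)) * (n z)⁻¹ := by group
      _ = n y * (((n y)⁻¹ * n z) * ((x : A) : G)) * (n z)⁻¹ := by rw [h3]
      _ = _ := by group
  have hcard := Finset.card_le_mul_card_image (f := f) (Finset.univ : Finset {x : A // x ≠ 1}) e hfib
  have hcA : (Finset.univ : Finset {x : A // x ≠ 1}).card = Nat.card A - 1 := by
    rw [Finset.card_univ, ← Nat.card_eq_fintype_card]
    have := Fintype.ofFinite A
    rw [Nat.card_eq_fintype_card, Nat.card_eq_fintype_card, Fintype.card_subtype_compl,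
      Fintype.card_subtype_eq]
  rw [hcA] at hcard
  choose! g hg using hs
  have hdisj : Disjoint ((Finset.univ : Finset {x : A // x ≠ 1}).image f)
      (s.image (fun n => ConjClasses.mk (g n))) := by
    rw [Finset.disjoint_left]
    intro c hc hc'
    obtain ⟨x, -, rfl⟩ := Finset.mem_image.1 hc
    obtain ⟨k, hk, hkx⟩ := Finset.mem_image.1 hc'
    have h1 := orderOf_eq_of_isConj (ConjClasses.mk_eq_mk_iff_isConj.1 hkx)
    rw [hg k hk] at h1
    have h2 : orderOf ((x : A) : G) ∣ Nat.card A := by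
      rw [Subgroup.orderOf_coe]
      exact orderOf_dvd_natCard _
    have h3 := hd k hk (by rw [h1]; exact h2)
    rw [h3, eq_comm, orderOf_eq_one_iff] at h1
    exact x.2 (Subtype.ext h1)
  have hsc : (s.image (fun n => ConjClasses.mk (g n))).card = s.card := by
    apply Finset.card_image_of_injOn
    intro a ha b hb hab
    have h1 := orderOf_eq_of_isConj (ConjClasses.mk_eq_mk_iff_isConj.1 hab)
    rwa [hg a ha, hg b hb] at h1
  have h5 := Finset.card_le_univ (((Finset.univ : Finset {x : A // x ≠ 1}).image f) ∪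
    (s.image (fun n => ConjClasses.mk (g n))))
  rw [Finset.card_union_of_disjoint hdisj, hsc, ← Nat.card_eq_fintype_card] at h5
  have h6 : (Nat.card A - 1) / e ≤ ((Finset.univ : Finset {x : A // x ≠ 1}).image f).card :=
    Nat.div_le_of_le_mul hcard
  omega

theorem ree {F : Type*} [Field F] [Fintype F] {m : ℕ} (hm : 1 ≤ m)
    (hF : Fintype.card F = 3 ^ (2 * m + 1)) :
    12 ≤ Nat.card (ConjClasses ↥(Lie.twistedG2 F (3 ^ m))) := by
  have hfin : Finite ↥(Cfsg.Lie.twistedG2 F (3 ^ m)) := by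
    apply Nat.finite_of_card_ne_zero
    rw [Cfsg.Agent.LieRecognition.ReeFinal.card hF]
    have h1 : 0 < 3 ^ (2 * m + 1) := by positivity
    have h2 : 0 < 3 ^ (2 * m + 1) - 1 := by
      have : 3 ^ 1 ≤ 3 ^ (2 * m + 1) := Nat.pow_le_pow_right (by norm_num) (by omega)
      omega
    positivity
  obtain ⟨A, hA, hcA, hcN, hN⟩ := Cfsg.Agent.S1158.result hm hF
    (3 ^ (2 * m + 1) + 3 ^ (m + 1) + 1, 6 * (3 ^ (2 * m + 1) + 3 ^ (m + 1) + 1)) (by simp only [_root_.Set.mem_insert_iff, _root_.Prod.mk.injEq, _root_.mul_eq_mul_left_iff, _root_.Nat.add_right_cancel_iff, _root_.Nat.add_eq_left, _root_.Nat.pow_eq_zero, _root_.OfNat.ofNat_ne_zero, _root_.ne_eq, _root_.Nat.add_eq_zero_iff, _root_.one_ne_zero, _root_.and_false, _root_.not_false_eq_true, _root_.and_true, _root_.or_self, _root_.or_false, _root_.and_self, _root_.Set.mem_singleton_iff, _root_.or_true])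
  simp only at hcA hcN
  have hq : 27 ≤ 3 ^ (2 * m + 1) := by
    have := Nat.pow_le_pow_right (n := 3) (by norm_num) (show 3 ≤ 2 * m + 1 by omega)
    norm_num at this
    exact this
  have hr : 9 ≤ 3 ^ (m + 1) := by
    have := Nat.pow_le_pow_right (n := 3) (by norm_num) (show 2 ≤ m + 1 by omega)
    norm_num at this
    exact this
  have hqr : 3 * 3 ^ (2 * m + 1) = 3 ^ (m + 1) * 3 ^ (m + 1) := by
    rw [← pow_add, ← pow_succ']
    congr 1
    ring
  have hodd : 3 ^ (2 * m + 1) % 2 = 1 := by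
    rw [Nat.pow_mod]; simp
  have hoddr : 3 ^ (m + 1) % 2 = 1 := by
    rw [Nat.pow_mod]; simp
  have hq3 : 3 ∣ 3 ^ (2 * m + 1) := dvd_pow_self 3 (by omega)
  have hr3 : 3 ∣ 3 ^ (m + 1) := dvd_pow_self 3 (by omega)
  have ho := fun d => Cfsg.Agent.S1159.result hm hF d
  have hs : ∀ n ∈ ({1, 2, 3, 6, 9, (3 ^ (2 * m + 1) - 1) / 2} : Finset ℕ),
      HasOrd ↥(Cfsg.Lie.twistedG2 F (3 ^ m)) n := by
    intro n hn
    refine (ho n).2 ?_
    simp only [Finset.mem_insert, Finset.mem_singleton] at hn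
    rcases hn with rfl | rfl | rfl | rfl | rfl | rfl
    · exact Or.inl (by norm_num)
    · exact Or.inl (by norm_num)
    · exact Or.inl (by norm_num)
    · exact Or.inl (by norm_num)
    · exact Or.inr (Or.inl (by norm_num))
    · right; right; left
      exact Nat.div_dvd_of_dvd (by omega)
  have h := count_ge A hA hN (e := 6) (by rw [hcA, hcN]) _ hs ?_
  · rw [hcA] at h
    have hcs : ({1, 2, 3, 6, 9, (3 ^ (2 * m + 1) - 1) / 2} : Finset ℕ).card = 6 := by
      rw [Finset.card_insert_of_notMem, Finset.card_insert_of_notMem,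
        Finset.card_insert_of_notMem, Finset.card_insert_of_notMem,
        Finset.card_insert_of_notMem, Finset.card_singleton] <;>
      · simp only [Finset.mem_insert, Finset.mem_singleton, not_or]
        (clear * - hodd hq; omega)
    rw [hcs] at h
    (clear * - hq hr h; omega)
  · intro n hn hd
    rw [hcA] at hd
    simp only [Finset.mem_insert, Finset.mem_singleton] at hn
    generalize 3 ^ (2 * m + 1) = q at *
    generalize 3 ^ (m + 1) = r at *
    rcases hn with rfl | rfl | rfl | rfl | rfl | rfl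
    · rfl
    · (clear * - hodd hoddr hd; omega)
    · (clear * - hq3 hr3 hd; omega)
    · (clear * - hodd hoddr hd; omega)
    · (clear * - hq3 hr3 hd; omega)
    · exfalso
      obtain ⟨k, hk⟩ : ∃ k, q = 2 * k + 1 := ⟨q / 2, by omega⟩
      have hk' : (q - 1) / 2 = k := by (clear * - hk; omega)
      rw [hk'] at hd
      have h1 : k ∣ r + 2 := by
        have e1 : q + r + 1 = 2 * k + (r + 2) := by (clear * - hk; omega)
        rw [e1] at hd
        exact (Nat.dvd_add_right (Dvd.intro_left 2 rfl)).1 hd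
      have h2 : (k : ℤ) ∣ 1 := by
        have e1 : (k : ℤ) ∣ (r : ℤ) + 2 := by exact_mod_cast h1
        have e2 : (k : ℤ) ∣ ((r : ℤ) + 2) * (r - 2) := Dvd.dvd.mul_right e1 _
        have e3 : 3 * (q : ℤ) = r * r := by exact_mod_cast hqr
        have e4 : ((r : ℤ) + 2) * (r - 2) = 6 * k - 1 := by
          have : (q : ℤ) = 2 * k + 1 := by exact_mod_cast hk
          rw [this] at e3
          linear_combination -e3
        rw [e4] at e2
        have e5 : (k : ℤ) ∣ 6 * k := Dvd.intro_left 6 rfl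
        have e6 := dvd_sub e5 e2
        have e7 : (6 * (k : ℤ) - (6 * k - 1)) = 1 := by ring
        rwa [e7] at e6
      have h3 : k ∣ 1 := by exact_mod_cast h2
      have h4 := Nat.le_of_dvd one_pos h3
      (clear * - hq hk h4; omega)

end Cfsg.Agent.H870.KRee
end
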