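import Cfsg.Agent.S0144
import Cfsg.Agent.S0243
import Cfsg.Agent.S0280
import Cfsg.Agent.H539.PartCount
import Cfsg.Agent.LieClassical.FieldTransfer
import Cfsg.Agent.Prune
set_option linter.all false
prune_inst 0x7f00000000000000000000000000000000000000000000000000000000000000000000000000000000000000000000000000000000000000000000000000000000000000000000000000000000000000003fffffffffffffffffffffffffffbeffbdffffffff
open scoped Cfsg.Agent.FastGrp

set_option autoImplicit false
open Cfsg

/-! # Simple groups of order `9 * 2 ^ a * q ^ b`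

Reduction of S2219, S2220 to the list of simple groups whose order has three prime divisors. -/

namespace Cfsg.Agent.H93.ThreeNine

/-- The order of a simple group of order `9 * 2 ^ a * q ^ b` has exactly three prime divisors. -/
theorem card_primeFactors {G : Type*} [Group G] [Finite G] [IsSimpleGroup G]
    (hG : ¬ IsMulCommutative G) (q a b : ℕ) (hq : q.Prime) (hq2 : q ≠ 2) (hq3 : q ≠ 3)
    (hcard : Nat.card G = 9 * 2 ^ a * q ^ b) : (Nat.card G).primeFactors.card = 3 := by
  have hns : ¬ Group.IsSolvable G := by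
    intro h
    apply hG
    have := h
    exact ⟨⟨IsSimpleGroup.comm_iff_isSolvable.2 h⟩⟩
  have ha : a ≠ 0 := by
    rintro rfl
    exact hns (S0144.result 3 q 2 b Nat.prime_three hq (by rw [hcard]; norm_num))
  have hb : b ≠ 0 := by
    rintro rfl
    exact hns (S0144.result 3 2 2 a Nat.prime_three Nat.prime_two (by rw [hcard]; norm_num))
  have h9 : (9 : ℕ) = 3 ^ 2 := by norm_num
  rw [hcard, h9, Nat.primeFactors_mul (by positivity) (pow_ne_zero _ hq.ne_zero),
    Nat.primeFactors_mul (by positivity) (by positivity),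
    Nat.primeFactors_prime_pow (by norm_num) Nat.prime_three,
    Nat.primeFactors_prime_pow ha Nat.prime_two, Nat.primeFactors_prime_pow hb hq]
  rw [Finset.card_union_of_disjoint, Finset.card_union_of_disjoint]
  · simp
  · simp
  · simp [Finset.disjoint_left, hq2.symm, hq3.symm]

/-- The `3`-part of the order. -/
theorem not_27 (q a b : ℕ) (hq : q.Prime) (hq3 : q ≠ 3) : ¬ 27 ∣ 9 * 2 ^ a * q ^ b := by
  intro h
  have h1 : (27 : ℕ) = 9 * 3 := by norm_num
  rw [h1, mul_assoc] at h
  have h2 := Nat.dvd_of_mul_dvd_mul_left (by norm_num : 0 < 9) h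
  rcases (Nat.Prime.dvd_mul Nat.prime_three).1 h2 with h3 | h3
  · have := Nat.Prime.dvd_of_dvd_pow Nat.prime_three h3
    omega
  · have := Nat.Prime.dvd_of_dvd_pow Nat.prime_three h3
    rw [Nat.prime_dvd_prime_iff_eq Nat.prime_three hq] at this
    exact hq3 this.symm

theorem card_psl_two_seven {F : Type*} [Field F] [Fintype F] (hF : Fintype.card F = 7) :
    Nat.card (Matrix.ProjectiveSpecialLinearGroup (Fin 2) F) = 168 := by
  have h := S0243.result (F := F) hF 2 le_rfl
  simp [Fin.prod_univ_succ] at h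
  omega

theorem card_psl_three_three {F : Type*} [Field F] [Fintype F] (hF : Fintype.card F = 3) :
    Nat.card (Matrix.ProjectiveSpecialLinearGroup (Fin 3) F) = 5616 := by
  have h := S0243.result (F := F) hF 3 (by norm_num)
  simp [Fin.prod_univ_succ] at h
  omega

theorem card_psu_three_three {F : Type*} [Field F] [Fintype F] (hF : Fintype.card F = 9) :
    Nat.card (Cfsg.PSU 3 F 3) = 6048 := by
  have h := S0280.result (F := F) (q := 3) (by rw [hF]; norm_num) 3 (by norm_num)
  simp [Finset.prod_range_succ] at h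
  omega

theorem card_psu_four_two {F : Type*} [Field F] [Fintype F] (hF : Fintype.card F = 4) :
    Nat.card (Cfsg.PSU 4 F 2) = 25920 := by
  have h := S0280.result (F := F) (q := 2) (by rw [hF]; norm_num) 4 (by norm_num)
  simp [Finset.prod_range_succ, Nat.even_iff] at h
  omega

/-- The statement of `S3719` for one group. -/
def List3 (G : Type*) [Group G] : Prop :=
    Nonempty (G ≃* ↥(alternatingGroup (Fin 5))) ∨ Nonempty (G ≃* ↥(alternatingGroup (Fin 6))) ∨
    (∃ (F : Type) (_ : Field F) (_ : Fintype F), (Fintype.card F = 7 ∨ Fintype.card F = 8 ∨ Fintype.card F = 17) ∧ Nonempty (G ≃* Matrix.ProjectiveSpecialLinearGroup (Fin 2) F)) ∨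
    (∃ (F : Type) (_ : Field F) (_ : Fintype F), Fintype.card F = 3 ∧ Nonempty (G ≃* Matrix.ProjectiveSpecialLinearGroup (Fin 3) F)) ∨
    (∃ (F : Type) (_ : Field F) (_ : Fintype F), Fintype.card F = 9 ∧ Nonempty (G ≃* Cfsg.PSU 3 F 3)) ∨
    (∃ (F : Type) (_ : Field F) (_ : Fintype F), Fintype.card F = 4 ∧ Nonempty (G ≃* Cfsg.PSU 4 F 2))

theorem main {G : Type*} [Group G] [Finite G] [IsSimpleGroup G]
    (q a b : ℕ) (hq : q.Prime) (hq3 : q ≠ 3)
    (hcard : Nat.card G = 9 * 2 ^ a * q ^ b) (hl : List3 G) :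
    Nonempty (G ≃* ↥(alternatingGroup (Fin 6))) ∨
      (∃ (F : Type) (_ : Field F) (_ : Fintype F), Fintype.card F = 8 ∧
        Nonempty (G ≃* Matrix.ProjectiveSpecialLinearGroup (Fin 2) F)) ∨
      Nonempty (G ≃* Matrix.ProjectiveSpecialLinearGroup (Fin 2) (ZMod 17)) := by
  have h9 : 9 ∣ Nat.card G := by
    rw [hcard, mul_assoc]
    exact Nat.dvd_mul_right _ _
  have h27 : ¬ 27 ∣ Nat.card G := by
    rw [hcard]
    exact not_27 q a b hq hq3
  rcases hl with ⟨⟨e⟩⟩ | ⟨⟨e⟩⟩ | ⟨F, _, _, hF, ⟨e⟩⟩ | ⟨F, _, _, hF, ⟨e⟩⟩ | ⟨F, _, _, hF, ⟨e⟩⟩ |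
    ⟨F, _, _, hF, ⟨e⟩⟩
  · exfalso
    rw [Nat.card_congr e.toEquiv, nat_card_alternatingGroup] at h9
    norm_num [Nat.factorial] at h9
  · exact Or.inl ⟨e⟩
  · rcases hF with hF | hF | hF
    · exfalso
      rw [Nat.card_congr e.toEquiv, card_psl_two_seven hF] at h9
      norm_num at h9
    · exact Or.inr (Or.inl ⟨F, inferInstance, inferInstance, hF, ⟨e⟩⟩)
    · right; right
      have : Fact (Nat.Prime 17) := ⟨by norm_num⟩
      have e' : F ≃+* ZMod 17 := FiniteField.ringEquivOfCardEq (by rw [hF, ZMod.card])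
      exact ⟨e.trans (LieClassical.FieldTransfer.pslCongr e')⟩
  · exfalso
    rw [Nat.card_congr e.toEquiv, card_psl_three_three hF] at h27
    norm_num at h27
  · exfalso
    rw [Nat.card_congr e.toEquiv, card_psu_three_three hF] at h27
    norm_num at h27
  · exfalso
    rw [Nat.card_congr e.toEquiv, card_psu_four_two hF] at h27
    norm_num at h27

end Cfsg.Agent.H93.ThreeNine

private theorem dce_a4d8408d7b7c : _root_.True := by
  try have : _root_.True := by simp only [_root_.Matrix.ProjectiveSpecialLinearGroup.congr_simp]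
  exact _root_.True.intro
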